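import Mathlib

/-! Rank three groups whose point stabiliser is a Frobenius group on one suborbit: the setting. -/

set_option autoImplicit false

namespace CfsgLib.RF3

open MulAction Subgroup

theorem dcount_le {α β : Type*} [Finite α] [Finite β] (A : Set α) (B : Set β) (R : α → β → Prop) (m n : ℕ)
    (hA : ∀ a ∈ A, m ≤ {b | b ∈ B ∧ R a b}.ncard) (hB : ∀ b ∈ B, {a | a ∈ A ∧ R a b}.ncard ≤ n) :
    A.ncard * m ≤ B.ncard * n := by
  classical
  rw [Set.ncard_eq_toFinset_card A, Set.ncard_eq_toFinset_card B]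
  refine Finset.card_mul_le_card_mul R (fun a ha => (hA a (by simpa using ha)).trans_eq ?_)
    fun b hb => le_of_eq_of_le ?_ (hB b (by simpa using hb))
  · rw [← Set.ncard_coe_finset]
    congr 1
    ext b
    simp [Finset.bipartiteAbove]
  · rw [← Set.ncard_coe_finset]
    congr 1
    ext a
    simp [Finset.bipartiteBelow]

theorem dcount {α β : Type*} [Finite α] [Finite β] (A : Set α) (B : Set β) (R : α → β → Prop) (m n : ℕ)
    (hA : ∀ a ∈ A, {b | b ∈ B ∧ R a b}.ncard = m) (hB : ∀ b ∈ B, {a | a ∈ A ∧ R a b}.ncard = n) :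
    A.ncard * m = B.ncard * n :=
  (dcount_le A B R m n (fun a ha => (hA a ha).ge) fun b hb => (hB b hb).le).antisymm
    (dcount_le B A (fun b a => R a b) n m (fun b hb => (hB b hb).ge) fun a ha => (hA a ha).le)

variable {G X : Type*} [Group G] [MulAction G X]

theorem free_dvd (H : Subgroup G) (S : Set X) (hS : ∀ h ∈ H, ∀ x ∈ S, h • x ∈ S)
    (hfree : ∀ h ∈ H, ∀ x ∈ S, h • x = x → h = 1) : Nat.card H ∣ S.ncard := by
  let _ : MulAction H S :=
    { smul := fun h x => ⟨h.1 • x.1, hS h.1 h.2 x.1 x.2⟩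
      one_smul := fun x => Subtype.ext (one_smul G x.1)
      mul_smul := fun h k x => Subtype.ext (mul_smul h.1 k.1 x.1) }
  have hst : ∀ x : S, stabilizer H x = ⊥ := fun x => by
    rw [eq_bot_iff]
    intro h hh
    exact Subtype.ext (hfree h.1 h.2 x.1 x.2 (congrArg Subtype.val hh))
  have e := selfEquivOrbitsQuotientProd (G := H) (X := S) hst
  change _ ∣ Nat.card S
  rw [Nat.card_congr e, Nat.card_prod]
  exact Dvd.intro_left _ rfl

theorem orb_card (P : Subgroup G) (a : X) {S : Set X} (h : ∀ y, y ∈ S ↔ ∃ g ∈ P, g • a = y) :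
    S.ncard * Nat.card (P ⊓ stabilizer G a : Subgroup G) = Nat.card P := by
  have h1 := Nat.card_congr (orbitProdStabilizerEquivGroup P a)
  rw [Nat.card_prod, Nat.card_coe_set_eq] at h1
  rw [← h1]
  congr 1
  · congr 1
    ext y
    rw [h, mem_orbit_iff]
    exact ⟨fun ⟨g, h1, h2⟩ => ⟨⟨g, h1⟩, h2⟩, fun ⟨g, h1⟩ => ⟨g, g.2, h1⟩⟩
  have h2 : stabilizer P a = (P ⊓ stabilizer G a).subgroupOf P := by
    ext x
    simp [Subgroup.mem_subgroupOf, mem_stabilizer_iff, Subgroup.smul_def]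
  rw [h2]
  exact (Nat.card_congr (Subgroup.subgroupOfEquivOfLe inf_le_left).toEquiv).symm

theorem fix_of_not_dvd [Finite X] {p : ℕ} (hp : p.Prime) {R : Subgroup G} (hR : IsPGroup p R) {S : Set X}
    (hS : ∀ h ∈ R, ∀ x ∈ S, h • x ∈ S) (hn : ¬ p ∣ S.ncard) : ∃ x ∈ S, ∀ g ∈ R, g • x = x := by
  have := Fact.mk hp
  let _ : MulAction R S :=
    { smul := fun h x => ⟨h.1 • x.1, hS h.1 h.2 x.1 x.2⟩
      one_smul := fun x => Subtype.ext (one_smul G x.1)
      mul_smul := fun h k x => Subtype.ext (mul_smul h.1 k.1 x.1) }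
  obtain ⟨x, hx⟩ := hR.nonempty_fixed_point_of_prime_not_dvd_card S hn
  exact ⟨x, x.2, fun g hg => congrArg Subtype.val (hx ⟨g, hg⟩)⟩

theorem ncard_smul_eq (g : G) {S T : Set X} (h : ∀ x, x ∈ S ↔ g • x ∈ T) : S.ncard = T.ncard :=
  Set.ncard_congr (fun x _ => g • x) (fun x hx => (h x).1 hx) (fun _ _ _ _ e => MulAction.injective g e)
    fun y hy => ⟨g⁻¹ • y, (h _).2 (by rwa [smul_inv_smul]), smul_inv_smul g y⟩

theorem ncard_conj_eq (g : G) {S T : Set G} (h : ∀ x, x ∈ S ↔ g * x * g⁻¹ ∈ T) : S.ncard = T.ncard :=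
  Set.ncard_congr (fun x _ => g * x * g⁻¹) (fun x hx => (h x).1 hx) (fun _ _ _ _ e => by simpa using e)
    fun y hy => ⟨g⁻¹ * y * g, (h _).2 (by simpa [mul_assoc] using hy), by simp [mul_assoc]⟩

/-- distinct and not adjacent -/
def Nad (adj : X → X → Prop) (a b : X) : Prop := a ≠ b ∧ ¬ adj a b

/-- two-point stabiliser -/
abbrev St2 (G : Type*) [Group G] [MulAction G X] (a b : X) : Subgroup G := stabilizer G a ⊓ stabilizer G b

/-- the orbital graph `adj` of valency `k`, the Frobenius kernels `K v` of the point stabilisers, edge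
stabilisers of order `m`, stabilisers of non-edges of order `d` -/
structure Hy (adj : X → X → Prop) (K : X → Subgroup G) (k m l d lam mu : ℕ) : Prop where
  inv : ∀ (g : G) x y, adj x y → adj (g • x) (g • y)
  symm : ∀ x y, adj x y → adj y x
  irr : ∀ x, ¬ adj x x
  tr : ∀ a b : X, ∃ g : G, g • a = b
  edge : ∀ {a b a' b'}, adj a b → adj a' b' → ∃ g : G, g • a = a' ∧ g • b = b'
  non : ∀ {a b a' b'}, Nad adj a b → Nad adj a' b' → ∃ g : G, g • a = a' ∧ g • b = b'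
  frob : ∀ {g : G} {v a b}, g • v = v → adj v a → adj v b → g • a = a → g • b = b → a ≠ b → g = 1
  Kfix : ∀ {v y}, y ∈ K v → y • v = v
  Kconj : ∀ (g : G) {v y}, y ∈ K v → g * y * g⁻¹ ∈ K (g • v)
  Kfree : ∀ {v y a}, y ∈ K v → adj v a → y • a = a → y = 1
  Ktr : ∀ {v a b}, adj v a → adj v b → ∃ y ∈ K v, y • a = b
  Kor : ∀ {g : G} {v}, g • v = v → g ∈ K v ∨ ∃ a, adj v a ∧ g • a = a
  nilp : ∀ v, Group.IsNilpotent (K v)
  cK : ∀ v, Nat.card (K v) = k
  cL : ∀ {a b}, adj a b → Nat.card (St2 G a b) = m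
  cD : ∀ {a b}, Nad adj a b → Nat.card (St2 G a b) = d
  deg : ∀ v, {y | adj v y}.ncard = k
  ndeg : ∀ v, {y | Nad adj v y}.ncard = l
  hl : ∀ x y, adj x y → {z | adj x z ∧ adj y z}.ncard = lam
  hm : ∀ x y, x ≠ y → ¬ adj x y → {z | adj x z ∧ adj y z}.ncard = mu
  m2 : 2 ≤ m
  tri1 : ∃ a c c', Nad adj a c ∧ Nad adj a c' ∧ adj c c'
  tri2 : ∃ a b c, adj a b ∧ adj b c ∧ Nad adj a c

end CfsgLib.RF3
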